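import Cfsg.Agent.H510.CS.Cent
import Cfsg.Agent.H951.Lin

/-!
# Irreducible elements of prime order and their commutants; the arithmetic of `|GU_m(Q)|` (helper510, for S3677)
-/

set_option autoImplicit false
set_option linter.unusedSectionVars false

namespace Cfsg.Agent.H510.CS

open Module Polynomial
open Cfsg.Agent.H951 (Inv fx cm isCompl_fx_cm ord_dvd_finrank)

section irr

variable {F V : Type*} [Field F] [Fintype F] [AddCommGroup V] [Module F V] [FiniteDimensional F V] [Nontrivial V]
  {r : ℕ} [Fact r.Prime] {Y : Module.End F V}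

/-- `Y` of prime order `r`, `r` of order `dim V` modulo `q`: no invariant subspaces -/
theorem inv_eq (hr : (r : F) ≠ 0) (hY : Y ^ r = 1) (hY1 : Y ≠ 1)
    (ho : orderOf (Fintype.card F : ZMod r) = finrank F V) {U : Submodule F V} (hU : Inv Y U) : U = ⊥ ∨ U = ⊤ := by
  have hc := isCompl_fx_cm hr hY
  have hpos : 0 < finrank F V := finrank_pos
  have h1 : cm Y = ⊤ := by
    have h2 := ord_dvd_finrank hY (W := cm Y) H951.inv_cm (by rw [inf_comm]; exact hc.inf_eq_bot)
    rw [ho] at h2
    have h3 : finrank F (cm Y) ≠ 0 := by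
      intro h0
      rw [Submodule.finrank_eq_zero] at h0
      apply hY1
      apply LinearMap.ext
      intro v
      have h4 : Y v - v ∈ cm Y := H951.mem_cm.2 ⟨v, rfl⟩
      rw [h0, Submodule.mem_bot, sub_eq_zero] at h4
      exact h4
    exact Submodule.eq_top_of_finrank_eq (le_antisymm (Submodule.finrank_le _)
      (Nat.le_of_dvd (Nat.pos_of_ne_zero h3) h2))
  have h5 : fx Y = ⊥ := by
    have := hc.inf_eq_bot
    rwa [h1, inf_top_eq] at this
  have h6 := ord_dvd_finrank hY hU (by rw [h5, inf_bot_eq])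
  rw [ho] at h6
  rcases Nat.eq_zero_or_pos (finrank F U) with h7 | h7
  · exact Or.inl (Submodule.finrank_eq_zero.1 h7)
  · exact Or.inr (Submodule.eq_top_of_finrank_eq (le_antisymm (Submodule.finrank_le _) (Nat.le_of_dvd h7 h6)))

/-- the commutant of an irreducible operator: irreducible minimal polynomials -/
theorem irreducible_minpoly (hinv : ∀ U : Submodule F V, Inv Y U → U = ⊥ ∨ U = ⊤) {W : Module.End F V}
    (hc : ∀ v, W (Y v) = Y (W v)) : Irreducible (minpoly F W) := by
  have hint : IsIntegral F W := Algebra.IsIntegral.isIntegral W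
  have hne := minpoly.ne_zero hint
  refine ⟨fun hu => ?_, ?_⟩
  · have h1 := minpoly.monic hint
    have h2 := h1.eq_one_of_isUnit hu
    have h3 := minpoly.aeval F W
    rw [h2, map_one] at h3
    obtain ⟨v, hv⟩ := exists_ne (0 : V)
    exact hv (LinearMap.congr_fun h3 v)
  · intro g h hgh
    have hcomm : ∀ (P : F[X]) (v : V), aeval W P (Y v) = Y (aeval W P v) := by
      intro P v
      have hpow : ∀ (n : ℕ) (v : V), (W ^ n) (Y v) = Y ((W ^ n) v) := by
        intro n
        induction n with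
        | zero => intro v; rfl
        | succ n ih =>
          intro v
          rw [pow_succ, Module.End.mul_apply, Module.End.mul_apply, hc, ih]
      induction P using Polynomial.induction_on' with
      | add p q hp hq => rw [map_add, LinearMap.add_apply, LinearMap.add_apply, hp, hq, map_add]
      | monomial n c =>
        rw [aeval_monomial, ← Algebra.smul_def, LinearMap.smul_apply, LinearMap.smul_apply, hpow, map_smul]
    have hI : Inv Y (LinearMap.ker (aeval W h)) := by
      intro v hv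
      rw [LinearMap.mem_ker] at hv ⊢
      rw [hcomm, hv, map_zero]
    have hprod : aeval W g * aeval W h = 0 := by rw [← map_mul, ← hgh, minpoly.aeval]
    rcases hinv _ hI with h1 | h1
    · -- `h(W)` is injective
      right
      have hinj : Function.Injective (aeval W h) := LinearMap.ker_eq_bot.1 h1
      have hsur : Function.Surjective (aeval W h) := LinearMap.injective_iff_surjective.1 hinj
      have hg0 : aeval W g = 0 := by
        apply LinearMap.ext
        intro v
        obtain ⟨u, rfl⟩ := hsur v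
        exact LinearMap.congr_fun hprod u
      have hd : minpoly F W ∣ g := minpoly.dvd F W hg0
      obtain ⟨c, hcg⟩ := hd
      have h2 : minpoly F W * 1 = minpoly F W * (c * h) := by
        rw [mul_one, ← mul_assoc, ← hcg]
        exact hgh
      exact IsUnit.of_mul_eq_one_right c (mul_left_cancel₀ hne h2).symm
    · left
      have hh0 : aeval W h = 0 := LinearMap.ker_eq_top.1 h1
      have hd : minpoly F W ∣ h := minpoly.dvd F W hh0
      obtain ⟨c, hcg⟩ := hd
      have h2 : minpoly F W * 1 = minpoly F W * (g * c) := by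
        rw [mul_one, mul_left_comm, ← hcg]
        exact hgh
      exact IsUnit.of_mul_eq_one c (mul_left_cancel₀ hne h2).symm

/-- an element of order `r` in `F[W]ˣ` -/
theorem dvd_pow_sub_one (hY : Y ^ r = 1) (hY1 : Y ≠ 1) (hirr : Irreducible (minpoly F Y)) :
    r ∣ Fintype.card F ^ (minpoly F Y).natDegree - 1 := by
  have hr : r.Prime := Fact.out
  obtain ⟨L, _, _, _, _, _, w, hw, hgen, hfr, hmin⟩ := exists_field hirr
  have hLf : Fintype L := Fintype.ofFinite L
  have hpow : ∀ (n : ℕ) (v : V), w ^ n • v = (Y ^ n) v := by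
    intro n
    induction n with
    | zero => intro v; rw [pow_zero, one_smul]; rfl
    | succ n ih =>
      intro v
      rw [pow_succ, mul_smul, ih, hw, pow_succ, Module.End.mul_apply]
  have hw1 : w ^ r = 1 := by
    rw [← sub_eq_zero]
    apply smul_ext (V := V)
    intro v
    rw [sub_smul, hpow, hY, one_smul]
    exact sub_self v
  have hwne : w ≠ 1 := by
    rintro rfl
    apply hY1
    apply LinearMap.ext
    intro v
    rw [← hw, one_smul]
    rfl
  have hw0 : w ≠ 0 := by
    rintro rfl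
    rw [zero_pow hr.ne_zero] at hw1
    exact zero_ne_one hw1
  have h1 : orderOf (Units.mk0 w hw0) = r := by
    refine orderOf_eq_prime (Units.ext ?_) (fun h => hwne (congrArg Units.val h))
    rw [Units.val_pow_eq_pow_val]
    exact hw1
  have h2 : r ∣ Nat.card Lˣ := by
    rw [← h1]
    exact orderOf_dvd_natCard _
  rw [Nat.card_units, Module.natCard_eq_pow_finrank (K := F) (V := L), hfr, Nat.card_eq_fintype_card] at h2
  exact h2

end irr

section arith

/-- `|GU_m(Q)|` -/
def gu (Q m : ℕ) : ℕ :=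
  Q ^ (m * (m - 1) / 2) * ∏ i ∈ Finset.range m, (if Even i then Q ^ (i + 1) + 1 else Q ^ (i + 1) - 1)

theorem gu_one (Q : ℕ) : gu Q 1 = Q + 1 := by simp [gu]

theorem fac_ne_zero {Q : ℕ} (hQ : 2 ≤ Q) (i : ℕ) : (if Even i then Q ^ (i + 1) + 1 else Q ^ (i + 1) - 1) ≠ 0 := by
  split_ifs
  · exact Nat.succ_ne_zero _
  · have : Q ^ 1 ≤ Q ^ (i + 1) := Nat.pow_le_pow_right (by omega) (by omega)
    rw [pow_one] at this
    omega

theorem gu_ne_zero {Q : ℕ} (hQ : 2 ≤ Q) (m : ℕ) : gu Q m ≠ 0 :=
  mul_ne_zero (pow_ne_zero _ (by omega)) (Finset.prod_ne_zero_iff.2 fun i _ => fac_ne_zero hQ i)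

theorem not_dvd_fac {p Q : ℕ} (hp : p.Prime) (hpQ : p ∣ Q) (hQ : 2 ≤ Q) (i : ℕ) :
    ¬ p ∣ (if Even i then Q ^ (i + 1) + 1 else Q ^ (i + 1) - 1) := by
  have h1 : p ∣ Q ^ (i + 1) := dvd_pow hpQ (Nat.succ_ne_zero i)
  split_ifs
  · intro h
    exact hp.one_lt.ne' (Nat.dvd_one.1 ((Nat.dvd_add_right h1).1 h))
  · intro h
    have h2 : 1 ≤ Q ^ (i + 1) := Nat.one_le_pow _ _ (by omega)
    have h3 : p ∣ 1 := by
      have h4 := Nat.dvd_sub h1 h
      rwa [Nat.sub_sub_self h2] at h4
    exact hp.one_lt.ne' (Nat.dvd_one.1 h3)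

/-- the `p`-part -/
theorem fac_gu {p : ℕ} (hp : p.Prime) {s : ℕ} (hs : 1 ≤ s) (m : ℕ) :
    (gu (p ^ s) m).factorization p = s * (m * (m - 1) / 2) := by
  have hQ : 2 ≤ p ^ s := hp.two_le.trans (Nat.le_self_pow (by omega) p)
  have hpQ : p ∣ p ^ s := dvd_pow_self p (by omega)
  have hprod : ∏ i ∈ Finset.range m, (if Even i then (p ^ s) ^ (i + 1) + 1 else (p ^ s) ^ (i + 1) - 1) ≠ 0 :=
    Finset.prod_ne_zero_iff.2 fun i _ => fac_ne_zero hQ i
  rw [gu, Nat.factorization_mul (pow_ne_zero _ (by omega)) hprod, Finsupp.add_apply, ← pow_mul,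
    hp.factorization_pow, Finsupp.single_eq_same, Nat.factorization_eq_zero_of_not_dvd, add_zero]
  intro hd
  obtain ⟨i, -, hi⟩ := (hp.prime.dvd_finsetProd_iff _).1 hd
  exact not_dvd_fac hp hpQ hQ i hi

/-- `m` is odd if a prime `r` of order `2 k m` divides `|GU_m(q ^ k)|` -/
theorem odd_of_dvd_gu {r q k m : ℕ} (hr : r.Prime) (hk : 0 < k) (hm : 0 < m) (hq : 2 ≤ q)
    (ho : orderOf (q : ZMod r) = 2 * (k * m)) (hd : r ∣ gu (q ^ k) m) : Odd m := by
  have hrf : Fact r.Prime := ⟨hr⟩
  have hrq : ¬ r ∣ q := by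
    intro h
    have h1 : (q : ZMod r) = 0 := (ZMod.natCast_eq_zero_iff q r).2 h
    rw [h1] at ho
    have h2 : orderOf (0 : ZMod r) = 0 := by
      rw [orderOf_eq_zero_iff']
      intro n hn h3
      rw [zero_pow hn.ne'] at h3
      exact zero_ne_one h3
    rw [h2] at ho
    have : 0 < k * m := Nat.mul_pos hk hm
    omega
  have key : ∀ j : ℕ, r ∣ q ^ j - 1 → 2 * (k * m) ∣ j := by
    intro j hj
    rw [← ho]
    apply orderOf_dvd_of_pow_eq_one
    have h1 : 1 ≤ q ^ j := Nat.one_le_pow _ _ (by omega)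
    have h2 : ((q ^ j - 1 : ℕ) : ZMod r) = 0 := (ZMod.natCast_eq_zero_iff _ _).2 hj
    rw [Nat.cast_sub h1, sub_eq_zero] at h2
    push_cast at h2
    exact h2
  rw [gu, hr.dvd_mul] at hd
  rcases hd with hd | hd
  · exact absurd (hr.dvd_of_dvd_pow (hr.dvd_of_dvd_pow hd)) hrq
  · obtain ⟨i, hi, hid⟩ := (hr.prime.dvd_finsetProd_iff _).1 hd
    rw [Finset.mem_range] at hi
    split_ifs at hid with he
    · rw [← pow_mul] at hid
      have h1 : r ∣ q ^ (2 * (k * (i + 1))) - 1 := by
        have h2 : q ^ (2 * (k * (i + 1))) - 1 = (q ^ (k * (i + 1)) + 1) * (q ^ (k * (i + 1)) - 1) := by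
          rw [mul_comm 2, pow_mul, ← Nat.sq_sub_sq, one_pow]
        rw [h2]
        exact hid.mul_right _
      have h2 := key _ h1
      have h3 : k * m ∣ k * (i + 1) := Nat.dvd_of_mul_dvd_mul_left two_pos h2
      have h4 : m ∣ i + 1 := Nat.dvd_of_mul_dvd_mul_left hk h3
      have h5 := Nat.le_of_dvd (Nat.succ_pos i) h4
      have h6 : m = i + 1 := by omega
      rw [h6]
      exact he.add_one
    · rw [← pow_mul] at hid
      have h2 : 2 * (k * m) ≤ k * (i + 1) := Nat.le_of_dvd (Nat.mul_pos hk (Nat.succ_pos i)) (key _ hid)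
      have h3 : k * (i + 1) ≤ k * m := Nat.mul_le_mul_left k (by omega)
      have h4 : 0 < k * m := Nat.mul_pos hk hm
      omega

end arith

end Cfsg.Agent.H510.CS
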