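import Cfsg.Agent.H450.UF.Count
import Cfsg.Agent.H951.Form
import Cfsg.Agent.S0277

/-!
# Isometries which are linear over a larger field: the unitary type (helper510, for S3677)

`L / F` finite fields, `V` an `L`-space, `B` a nondegenerate `ε`-symmetric `F`-bilinear form on `V`, `τ ≠ 1` an involution of `L / F`
with `B (a u) v = B u (τ a v)`: the `L`-linear isometries of `B` form a group of order `|GU_m(Q)|`, `|L| = Q ^ 2`,
`m = dim_L V` (`card_isom`).
-/

set_option autoImplicit false
set_option linter.unusedSectionVars false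

namespace Cfsg.Agent.H510.CS

open Module
open Cfsg.Agent.H951 (Frm)
open Cfsg.Agent.H91.U (HForm)

section lift

variable {F L V : Type*} [Field F] [Field L] [Algebra F L] [FiniteDimensional F L] [Algebra.IsSeparable F L]
  [AddCommGroup V] [Module F V] [Module L V] [IsScalarTower F L V] {ε : F} {B : V → V → F}

theorem trace_ext {x y : L} (h : ∀ a : L, Algebra.trace F L (a * x) = Algebra.trace F L (a * y)) : x = y := by
  rw [← sub_eq_zero]
  have h1 := (traceForm_nondegenerate F L).2 (x - y)
  apply h1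
  intro a
  rw [Algebra.traceForm_apply, mul_sub, map_sub, h, sub_self]

theorem exists_lift (hB : Frm (RingHom.id F) ε B) (u v : V) :
    ∃ h : L, ∀ a : L, Algebra.trace F L (a * h) = B (a • u) v := by
  let φ : L →ₗ[F] F :=
    { toFun := fun a => B (a • u) v
      map_add' := fun a b => by rw [add_smul, hB.add_left]
      map_smul' := fun c a => by rw [smul_assoc, hB.smul_left]; rfl }
  refine ⟨(LinearMap.BilinForm.toDual (Algebra.traceForm F L) (traceForm_nondegenerate F L)).symm φ, fun a => ?_⟩
  have h1 := LinearMap.BilinForm.apply_toDual_symm_apply (B := Algebra.traceForm F L)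
    (hB := traceForm_nondegenerate F L) φ a
  rw [Algebra.traceForm_apply, mul_comm] at h1
  exact h1

/-- the lifted form -/
noncomputable def hh (L : Type*) [Field L] [Algebra F L] [FiniteDimensional F L] [Algebra.IsSeparable F L] [Module L V]
    [IsScalarTower F L V] (hB : Frm (RingHom.id F) ε B) (u v : V) : L := Classical.choose (exists_lift (L := L) hB u v)

theorem tr_hh (hB : Frm (RingHom.id F) ε B) (u v : V) (a : L) : Algebra.trace F L (a * hh L hB u v) = B (a • u) v :=
  Classical.choose_spec (exists_lift (L := L) hB u v) a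

theorem hh_eq (hB : Frm (RingHom.id F) ε B) {u v : V} {x : L} (h : ∀ a : L, Algebra.trace F L (a * x) = B (a • u) v) :
    hh L hB u v = x := trace_ext fun a => by rw [tr_hh, h]

theorem hh_add_left (hB : Frm (RingHom.id F) ε B) (u u' v : V) : hh L hB (u + u') v = hh L hB u v + hh L hB u' v :=
  hh_eq hB fun a => by rw [mul_add, map_add, tr_hh, tr_hh, smul_add, hB.add_left]

theorem hh_add_right (hB : Frm (RingHom.id F) ε B) (u v v' : V) : hh L hB u (v + v') = hh L hB u v + hh L hB u v' :=
  hh_eq hB fun a => by rw [mul_add, map_add, tr_hh, tr_hh, hB.add_right]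

theorem hh_smul_left (hB : Frm (RingHom.id F) ε B) (b : L) (u v : V) : hh L hB (b • u) v = b * hh L hB u v :=
  hh_eq hB fun a => by rw [← mul_assoc, tr_hh, mul_smul]

variable (τ : L ≃ₐ[F] L)

theorem trace_tau (x : L) : Algebra.trace F L (τ x) = Algebra.trace F L x := Algebra.trace_eq_of_algEquiv τ x

theorem hh_smul_right (hB : Frm (RingHom.id F) ε B) (hadj : ∀ (a : L) (u v : V), B (a • u) v = B u (τ a • v))
    (hττ : ∀ a, τ (τ a) = a) (b : L) (u v : V) : hh L hB u (b • v) = τ b * hh L hB u v :=
  hh_eq hB fun a => by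
    rw [← mul_assoc, tr_hh, mul_comm, mul_smul, hadj, hττ]

theorem hh_swap (hB : Frm (RingHom.id F) ε B) (hadj : ∀ (a : L) (u v : V), B (a • u) v = B u (τ a • v))
    (hττ : ∀ a, τ (τ a) = a) (u v : V) : hh L hB v u = algebraMap F L ε * τ (hh L hB u v) :=
  hh_eq hB fun a => by
    have h1 : a * (algebraMap F L ε * τ (hh L hB u v)) = ε • τ (τ a * hh L hB u v) := by
      rw [map_mul, hττ, Algebra.smul_def]
      ring
    rw [h1, map_smul, trace_tau, tr_hh, hadj, hττ, smul_eq_mul, hB.herm u (a • v)]
    rfl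

theorem isom_iff (hB : Frm (RingHom.id F) ε B) (g : V ≃ₗ[L] V) :
    (∀ u v, B (g u) (g v) = B u v) ↔ ∀ u v, hh L hB (g u) (g v) = hh L hB u v := by
  constructor
  · intro h u v
    refine hh_eq hB fun a => ?_
    rw [tr_hh, ← map_smul, h]
  · intro h u v
    have h1 := tr_hh (L := L) hB (g u) (g v) 1
    rw [h, tr_hh, one_smul, one_smul] at h1
    exact h1.symm

/-- the hermitian form -/
noncomputable def DD (hB : Frm (RingHom.id F) ε B) (hadj : ∀ (a : L) (u v : V), B (a • u) v = B u (τ a • v))
    (hττ : ∀ a, τ (τ a) = a) (e : L) : V →ₛₗ[((τ : L ≃+* L) : L →+* L)] V →ₗ[L] L :=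
  LinearMap.mk₂'ₛₗ ((τ : L ≃+* L) : L →+* L) (RingHom.id L) (fun u v => e * hh L hB v u)
    (fun u u' v => by rw [hh_add_right, mul_add])
    (fun c u v => by
      rw [hh_smul_right τ hB hadj hττ]
      change _ = τ c * _
      ring)
    (fun u v v' => by rw [hh_add_left, mul_add])
    (fun c u v => by
      rw [hh_smul_left]
      change _ = c * _
      ring)

theorem DD_apply (hB : Frm (RingHom.id F) ε B) (hadj : ∀ (a : L) (u v : V), B (a • u) v = B u (τ a • v))
    (hττ : ∀ a, τ (τ a) = a) (e : L) (u v : V) : DD τ hB hadj hττ e u v = e * hh L hB v u := rfl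

theorem hform (hB : Frm (RingHom.id F) ε B) (hnd : ∀ u, (∀ v, B u v = 0) → u = 0)
    (hadj : ∀ (a : L) (u v : V), B (a • u) v = B u (τ a • v))
    (hττ : ∀ a, τ (τ a) = a) (hτ : τ ≠ 1) {e : L} (he0 : e ≠ 0) (he : τ e = algebraMap F L ε * e) :
    HForm (DD τ hB hadj hττ e) where
  nd := by
    have h0 : ∀ u v, hh L hB u v = 0 → B u v = 0 := fun u v h => by
      have h1 := tr_hh (L := L) hB u v 1
      rw [h, mul_zero, map_zero, one_smul] at h1
      exact h1.symm
    constructor
    · intro u hu
      apply hnd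
      intro v
      rw [hB.eq_zero_comm]
      apply h0
      exact (mul_eq_zero.1 (hu v)).resolve_left he0
    · intro u hu
      apply hnd
      intro v
      apply h0
      exact (mul_eq_zero.1 (hu v)).resolve_left he0
  symm := ⟨fun u v => by
    rw [DD_apply, DD_apply]
    change τ (e * hh L hB v u) = _
    rw [map_mul, he, hh_swap τ hB hadj hττ v u]
    ring⟩
  invol := hττ
  ne_id := fun h => hτ (AlgEquiv.ext fun x => congrArg (fun f : L →+* L => f x) h)

/-- the twist -/
theorem exists_e (hττ : ∀ a, τ (τ a) = a) (hτ : τ ≠ 1) (hε : ε = 1 ∨ ε = -1) : ∃ e : L, e ≠ 0 ∧ τ e = algebraMap F L ε * e := by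
  rcases hε with rfl | rfl
  · exact ⟨1, one_ne_zero, by rw [map_one, map_one, one_mul]⟩
  · obtain ⟨a, ha⟩ : ∃ a, τ a ≠ a := by
      by_contra hno
      push Not at hno
      exact hτ (AlgEquiv.ext hno)
    refine ⟨a - τ a, sub_ne_zero.2 (Ne.symm ha), ?_⟩
    rw [map_sub, hττ, map_neg, map_one]
    ring

end lift

section count

variable {L V : Type*} [Field L] [Fintype L] [AddCommGroup V] [Module L V] [FiniteDimensional L V]

/-- matrices and linear equivalences -/
noncomputable def glEquiv {m : ℕ} (φ : V ≃ₗ[L] (Fin m → L)) : GL (Fin m) L ≃ (V ≃ₗ[L] V) where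
  toFun A := (φ.trans (LinearMap.GeneralLinearGroup.generalLinearEquiv L (Fin m → L)
    (Matrix.GeneralLinearGroup.toLin A))).trans φ.symm
  invFun g := Matrix.GeneralLinearGroup.toLin.symm ((LinearMap.GeneralLinearGroup.generalLinearEquiv L (Fin m → L)).symm
    ((φ.symm.trans g).trans φ))
  left_inv A := by
    have h1 : (φ.symm.trans ((φ.trans (LinearMap.GeneralLinearGroup.generalLinearEquiv L (Fin m → L)
      (Matrix.GeneralLinearGroup.toLin A))).trans φ.symm)).trans φ =
        LinearMap.GeneralLinearGroup.generalLinearEquiv L (Fin m → L) (Matrix.GeneralLinearGroup.toLin A) := by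
      ext1 v
      simp
    beta_reduce
    rw [h1, MulEquiv.symm_apply_apply, MulEquiv.symm_apply_apply]
  right_inv g := by
    beta_reduce
    rw [MulEquiv.apply_symm_apply, MulEquiv.apply_symm_apply]
    ext1 v
    simp

theorem glEquiv_apply {m : ℕ} (φ : V ≃ₗ[L] (Fin m → L)) (A : GL (Fin m) L) (v : V) :
    φ (glEquiv φ A v) = (A : Matrix (Fin m) (Fin m) L).mulVec (φ v) := by
  change φ (φ.symm _) = _
  rw [LinearEquiv.apply_symm_apply]
  rfl

/-- the order of the unitary group of an hermitian space -/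
theorem card_hform {τ : L →+* L} {D : V →ₛₗ[τ] V →ₗ[L] L} (hD : HForm D) {q : ℕ} (hL : Fintype.card L = q ^ 2) :
    Nat.card {g : V ≃ₗ[L] V // ∀ u v, D (g u) (g v) = D u v} = Nat.card (Cfsg.GU (finrank L V) L q) := by
  obtain ⟨φ, hφ⟩ := Cfsg.Agent.H450.UF.exists_model hL hD
  refine (Nat.card_congr ((glEquiv φ).subtypeEquiv fun A => ?_)).symm
  rw [Cfsg.Agent.LieClassical.GUOrder.mem_GU_iff]
  constructor
  · intro h u v
    rw [hφ, hφ, glEquiv_apply, glEquiv_apply, h]
  · intro h u v
    have h1 := h (φ.symm v) (φ.symm u)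
    rw [hφ, hφ, glEquiv_apply, glEquiv_apply, LinearEquiv.apply_symm_apply, LinearEquiv.apply_symm_apply] at h1
    exact h1

end count

section main

variable {F L V : Type*} [Field F] [Field L] [Finite F] [Fintype L] [Algebra F L]
  [AddCommGroup V] [Module F V] [Module L V] [IsScalarTower F L V] [FiniteDimensional L V] {ε : F} {B : V → V → F}

/-- **The `L`-linear isometries of `B`.** -/
theorem card_isom (hB : Frm (RingHom.id F) ε B) (hnd : ∀ u, (∀ v, B u v = 0) → u = 0) (hε : ε = 1 ∨ ε = -1)
    (τ : L ≃ₐ[F] L) (hadj : ∀ (a : L) (u v : V), B (a • u) v = B u (τ a • v))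
    (hττ : ∀ a, τ (τ a) = a) (hτ : τ ≠ 1) {q : ℕ} (hL : Fintype.card L = q ^ 2) :
    Nat.card {g : V ≃ₗ[L] V // ∀ u v, B (g u) (g v) = B u v} = Nat.card (Cfsg.GU (finrank L V) L q) := by
  have hfd : FiniteDimensional F L := inferInstance
  obtain ⟨e, he0, he⟩ := exists_e τ hττ hτ hε
  rw [← card_hform (hform τ hB hnd hadj hττ hτ he0 he) hL]
  refine Nat.card_congr (Equiv.subtypeEquivRight fun g => ?_)
  rw [isom_iff (L := L) hB g]
  constructor
  · intro h u v
    rw [DD_apply, DD_apply, h]
  · intro h u v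
    have h1 := h v u
    rw [DD_apply, DD_apply] at h1
    exact mul_left_cancel₀ he0 h1

end main

end Cfsg.Agent.H510.CS
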