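import Cfsg.Agent.H510.CS.Herm

/-!
# Centralizers of isometries with irreducible minimal polynomial: the unitary type (helper510, for S3677)

* `exists_field` : `F[W]` as an abstract field `L` acting on `V`;
* `card_cent` : `W` an isometry of `B` with irreducible minimal polynomial, `W ^ 2 ≠ 1`: the isometries of `B` commuting with
  `W` form a group of order `|GU_m(q ^ k)|`, `dim V = 2 k m`, `deg = 2 k`;
* `sq_of_neg` : if `W` and `- W` have the same minimal polynomial (`W ≠ - W`) then `W ^ 2 = -1`.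
-/

set_option autoImplicit false
set_option linter.unusedSectionVars false

namespace Cfsg.Agent.H510.CS

open Module Polynomial
open Cfsg.Agent.H951 (Frm)

section galois

variable {F L V : Type*} [Field F] [Finite F] [Field L] [Finite L] [Algebra F L]
  [AddCommGroup V] [Module F V] [Module L V] [IsScalarTower F L V] {ε : F} {B : V → V → F} {w : L}

theorem pow_adj (hw0 : w ≠ 0) (hw : ∀ u v, B (w • u) (w • v) = B u v) (n : ℕ) (u v : V) :
    B (w ^ n • u) v = B u (w⁻¹ ^ n • v) := by
  induction n generalizing u v with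
  | zero => rw [pow_zero, pow_zero, one_smul, one_smul]
  | succ n ih =>
    have h1 : v = w • (w⁻¹ • v) := by rw [smul_smul, mul_inv_cancel₀ hw0, one_smul]
    have h2 : w ^ (n + 1) • u = w • (w ^ n • u) := by rw [smul_smul, pow_succ']
    rw [h2]
    conv_lhs => rw [h1]
    rw [hw, ih, smul_smul, pow_succ]

theorem aeval_adj (hB : Frm (RingHom.id F) ε B) (hw0 : w ≠ 0) (hw : ∀ u v, B (w • u) (w • v) = B u v) (P : F[X])
    (u v : V) : B (aeval w P • u) v = B u (aeval w⁻¹ P • v) := by
  induction P using Polynomial.induction_on' with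
  | add p q hp hq => rw [map_add, map_add, add_smul, add_smul, hB.add_left, hB.add_right, hp, hq]
  | monomial n c =>
    rw [aeval_monomial, aeval_monomial, ← Algebra.smul_def, ← Algebra.smul_def, smul_assoc, smul_assoc,
      hB.smul_left, hB.smul_right, pow_adj hw0 hw]
    rfl

theorem smul_ext [Nontrivial V] {a : L} (h : ∀ v : V, a • v = 0) : a = 0 := by
  obtain ⟨v, hv⟩ := exists_ne (0 : V)
  exact (smul_eq_zero.1 (h v)).resolve_right hv

variable [Nontrivial V]

theorem aeval_inv (hB : Frm (RingHom.id F) ε B) (hnd : ∀ u, (∀ v, B u v = 0) → u = 0) (hw0 : w ≠ 0)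
    (hw : ∀ u v, B (w • u) (w • v) = B u v) : aeval w⁻¹ (minpoly F w) = 0 := by
  apply smul_ext (V := V)
  intro v
  apply hnd
  intro u
  rw [hB.eq_zero_comm, ← aeval_adj hB hw0 hw, minpoly.aeval, zero_smul, hB.zero_left]

theorem exists_tau (hB : Frm (RingHom.id F) ε B) (hnd : ∀ u, (∀ v, B u v = 0) → u = 0) (hw0 : w ≠ 0)
    (hw : ∀ u v, B (w • u) (w • v) = B u v) (hgen : ∀ a : L, ∃ P : F[X], aeval w P = a) :
    ∃ τ : L ≃ₐ[F] L, τ w = w⁻¹ ∧ (∀ a u v, B (a • u) v = B u (τ a • v)) ∧ ∀ a, τ (τ a) = a := by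
  obtain ⟨τ, hτ⟩ := minpoly.exists_algEquiv_of_root' (K := F) (L := L) (x := w⁻¹) (y := w)
    (Algebra.IsAlgebraic.isAlgebraic w) (aeval_inv hB hnd hw0 hw)
  refine ⟨τ, hτ, fun a u v => ?_, fun a => ?_⟩
  · obtain ⟨P, rfl⟩ := hgen a
    have h1 : τ (aeval w P) = aeval (τ w) P := (aeval_algHom_apply τ.toAlgHom w P).symm
    rw [aeval_adj hB hw0 hw, h1, hτ]
  · obtain ⟨P, rfl⟩ := hgen a
    have h1 : ∀ x : L, τ (aeval x P) = aeval (τ x) P := fun x => (aeval_algHom_apply τ.toAlgHom x P).symm
    rw [h1, h1, hτ, map_inv₀, hτ, inv_inv]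

theorem card_sq {τ : L ≃ₐ[F] L} (hττ : ∀ a, τ (τ a) = a) (hτ : τ ≠ 1) :
    ∃ k, 0 < k ∧ finrank F L = 2 * k ∧ Nat.card L = (Nat.card F ^ k) ^ 2 := by
  have h1 : orderOf τ = 2 := by
    refine orderOf_eq_prime (AlgEquiv.ext fun a => ?_) hτ
    rw [pow_two]
    exact hττ a
  have h2 : 2 ∣ finrank F L := by
    rw [← IsGalois.card_aut_eq_finrank F L, ← h1]
    exact orderOf_dvd_natCard τ
  obtain ⟨k, hk⟩ := h2
  have hpos : 0 < finrank F L := finrank_pos
  refine ⟨k, by omega, hk, ?_⟩
  rw [Module.natCard_eq_pow_finrank (K := F) (V := L), hk, ← pow_mul, mul_comm]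

end galois

section comm

variable {F L V : Type*} [Field F] [Field L] [Algebra F L]
  [AddCommGroup V] [Module F V] [Module L V] [IsScalarTower F L V] {B : V → V → F} {w : L}

/-- isometries commuting with `W` and `L`-linear isometries -/
theorem card_comm_eq {W : V ≃ₗ[F] V} (hw : ∀ v : V, w • v = W v) (hgen : ∀ a : L, ∃ P : F[X], aeval w P = a) :
    Nat.card {g : V ≃ₗ[F] V // (∀ u v, B (g u) (g v) = B u v) ∧ ∀ v, g (W v) = W (g v)} =
      Nat.card {g : V ≃ₗ[L] V // ∀ u v, B (g u) (g v) = B u v} := by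
  have key : ∀ g : V ≃ₗ[F] V, (∀ v, g (W v) = W (g v)) → ∀ (a : L) (v : V), g (a • v) = a • g v := by
    intro g hg a v
    obtain ⟨P, rfl⟩ := hgen a
    have hpow : ∀ (n : ℕ) (v : V), g (w ^ n • v) = w ^ n • g v := by
      intro n
      induction n with
      | zero => intro v; rw [pow_zero, one_smul, one_smul]
      | succ n ih =>
        intro v
        rw [pow_succ, mul_smul, ih, hw, hg, ← hw, smul_smul]
    induction P using Polynomial.induction_on' with
    | add p q hp hq => rw [map_add, add_smul, add_smul, map_add, hp, hq]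
    | monomial n c =>
      rw [aeval_monomial, ← Algebra.smul_def, smul_assoc, smul_assoc, map_smul, hpow]
  refine Nat.card_congr
    { toFun := fun g => ⟨{ (g.1 : V ≃ₗ[F] V).toAddEquiv with map_smul' := fun a v => key g.1 g.2.2 a v }, g.2.1⟩
      invFun := fun g => ⟨g.1.restrictScalars F, g.2, fun v => ?_⟩
      left_inv := fun g => ?_
      right_inv := fun g => ?_ }
  · change g.1 (W v) = W (g.1 v)
    rw [← hw, ← hw, map_smul]
  · exact Subtype.ext (LinearEquiv.ext fun v => rfl)
  · exact Subtype.ext (LinearEquiv.ext fun v => rfl)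

end comm

section field

universe u v

variable {F : Type u} {V : Type v} [Field F] [Finite F] [AddCommGroup V] [Module F V] [FiniteDimensional F V]

/-- **`F[W]` as an abstract field.** -/
theorem exists_field {W : Module.End F V} (hirr : Irreducible (minpoly F W)) :
    ∃ (L : Type u) (_ : Field L) (_ : Algebra F L) (_ : Finite L) (_ : Module L V) (_ : IsScalarTower F L V) (w : L),
      (∀ v : V, w • v = W v) ∧ (∀ a : L, ∃ P : F[X], aeval w P = a) ∧ finrank F L = (minpoly F W).natDegree ∧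
      minpoly F w = minpoly F W := by
  set f := minpoly F W with hf
  have hfact : Fact (Irreducible f) := ⟨hirr⟩
  have hf0 : f ≠ 0 := hirr.ne_zero
  have hmon : f.Monic := minpoly.monic (Algebra.IsIntegral.isIntegral W)
  let ι : AdjoinRoot f →+* Module.End F V := Ideal.Quotient.lift (Ideal.span {f}) (aeval W : F[X] →ₐ[F] Module.End F V).toRingHom
    (by
      intro a ha
      obtain ⟨b, rfl⟩ := Ideal.mem_span_singleton'.1 ha
      change aeval W (b * f) = 0
      rw [map_mul, hf, minpoly.aeval, mul_zero])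
  have hι : ∀ P : F[X], ι (AdjoinRoot.mk f P) = aeval W P := fun P => rfl
  let hmod : Module (AdjoinRoot f) V := Module.compHom V ι
  have hsm : ∀ (a : AdjoinRoot f) (v : V), a • v = ι a v := fun a v => rfl
  have htow : IsScalarTower F (AdjoinRoot f) V := ⟨fun c a v => by
    obtain ⟨P, rfl⟩ := AdjoinRoot.mk_surjective a
    rw [hsm, hsm, AdjoinRoot.smul_mk, hι, hι, map_smul]
    rfl⟩
  have hfd : FiniteDimensional F (AdjoinRoot f) := (AdjoinRoot.powerBasis hf0).finite
  have hfin : Finite (AdjoinRoot f) := Module.finite_of_finite F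
  refine ⟨AdjoinRoot f, inferInstance, inferInstance, hfin, hmod, htow, AdjoinRoot.root f, fun v => ?_, fun a => ?_, ?_, ?_⟩
  · rw [hsm, ← AdjoinRoot.mk_X, hι, aeval_X]
  · obtain ⟨P, rfl⟩ := AdjoinRoot.mk_surjective a
    exact ⟨P, AdjoinRoot.aeval_eq P⟩
  · rw [(AdjoinRoot.powerBasis hf0).finrank]
    rfl
  · rw [AdjoinRoot.minpoly_root hf0, hmon.leadingCoeff, inv_one, C_1, mul_one]

/-- **The centralizer of an isometry with irreducible minimal polynomial.** -/
theorem card_cent [Nontrivial V] {ε : F} {B : V → V → F} (hB : Frm (RingHom.id F) ε B)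
    (hnd : ∀ u, (∀ v, B u v = 0) → u = 0) (hε : ε = 1 ∨ ε = -1) {W : V ≃ₗ[F] V} (hW : ∀ u v, B (W u) (W v) = B u v)
    (hirr : Irreducible (minpoly F (W : Module.End F V))) (hW2 : ∃ v, W (W v) ≠ v) :
    ∃ k m, 0 < k ∧ 0 < m ∧ finrank F V = 2 * k * m ∧ (minpoly F (W : Module.End F V)).natDegree = 2 * k ∧
      Nat.card {g : V ≃ₗ[F] V // (∀ u v, B (g u) (g v) = B u v) ∧ ∀ v, g (W v) = W (g v)} =
        (Nat.card F ^ k) ^ (m * (m - 1) / 2) *
          ∏ i ∈ Finset.range m, (if Even i then (Nat.card F ^ k) ^ (i + 1) + 1 else (Nat.card F ^ k) ^ (i + 1) - 1) := by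
  obtain ⟨L, _, _, _, _, _, w, hw, hgen, hfr, -⟩ := exists_field hirr
  have hLf : Fintype L := Fintype.ofFinite L
  have hwiso : ∀ u v, B (w • u) (w • v) = B u v := fun u v => by
    rw [hw, hw]
    exact hW u v
  have hw0 : w ≠ 0 := by
    rintro rfl
    obtain ⟨v, hv⟩ := exists_ne (0 : V)
    have h1 := hw v
    rw [zero_smul] at h1
    exact hv (W.map_eq_zero_iff.1 h1.symm)
  obtain ⟨τ, hτw, hadj, hττ⟩ := exists_tau hB hnd hw0 hwiso hgen
  have hτ1 : τ ≠ 1 := by
    rintro rfl
    have h1 : w = w⁻¹ := hτw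
    obtain ⟨v, hv⟩ := hW2
    apply hv
    have h2 : w * w = 1 := by
      nth_rewrite 1 [h1]
      exact inv_mul_cancel₀ hw0
    have h3 : W (W v) = (w * w) • v := by
      rw [mul_smul, hw, hw]
      rfl
    rw [h3, h2, one_smul]
  obtain ⟨k, hk0, hk, hLc⟩ := card_sq hττ hτ1
  have hfV : FiniteDimensional L V := FiniteDimensional.right F L V
  refine ⟨k, finrank L V, hk0, finrank_pos, ?_, by rw [← hfr, hk], ?_⟩
  · rw [← hk, Module.finrank_mul_finrank]
  · rw [card_comm_eq (B := B) hw hgen]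
    have hL2 : Fintype.card L = (Nat.card F ^ k) ^ 2 := by rw [← Nat.card_eq_fintype_card, hLc]
    rw [card_isom hB hnd hε τ hadj hττ hτ1 hL2, Cfsg.Agent.S0277.result hL2]

/-- **The defect**: `W` conjugate to `- W`. -/
theorem sq_of_neg [Nontrivial V] {ε : F} {B : V → V → F} (hB : Frm (RingHom.id F) ε B)
    (hnd : ∀ u, (∀ v, B u v = 0) → u = 0) {W : V ≃ₗ[F] V} (hW : ∀ u v, B (W u) (W v) = B u v)
    (hirr : Irreducible (minpoly F (W : Module.End F V))) (hW2 : ∃ v, W (W v) ≠ v) (h2 : (2 : F) ≠ 0)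
    {g : V ≃ₗ[F] V} (hg : ∀ v, g (W v) = - W (g v)) : (∀ v, W (W v) = -v) ∧ (minpoly F (W : Module.End F V)).natDegree ≤ 2 := by
  classical
  obtain ⟨L, _, _, _, _, _, w, hw, hgen, hfr, hmin⟩ := exists_field hirr
  have hLf : Fintype L := Fintype.ofFinite L
  have hwiso : ∀ u v, B (w • u) (w • v) = B u v := fun u v => by
    rw [hw, hw]
    exact hW u v
  have hw0 : w ≠ 0 := by
    rintro rfl
    obtain ⟨v, hv⟩ := exists_ne (0 : V)
    have h1 := hw v
    rw [zero_smul] at h1
    exact hv (W.map_eq_zero_iff.1 h1.symm)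
  obtain ⟨τ, hτw, hadj, hττ⟩ := exists_tau hB hnd hw0 hwiso hgen
  have hτ1 : τ ≠ 1 := by
    rintro rfl
    have h1 : w = w⁻¹ := hτw
    obtain ⟨v, hv⟩ := hW2
    apply hv
    have h2 : w * w = 1 := by
      nth_rewrite 1 [h1]
      exact inv_mul_cancel₀ hw0
    have h3 : W (W v) = (w * w) • v := by
      rw [mul_smul, hw, hw]
      rfl
    rw [h3, h2, one_smul]
  -- `- w` is a root of the minimal polynomial
  have hroot : aeval (-w) (minpoly F w) = 0 := by
    apply smul_ext (V := V)
    have hpow : ∀ (n : ℕ) (v : V), (-w) ^ n • g v = g (w ^ n • v) := by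
      intro n
      induction n with
      | zero => intro v; rw [pow_zero, pow_zero, one_smul, one_smul]
      | succ n ih =>
        intro v
        have h3 : (-w) • g v = g (w • v) := by
          rw [neg_smul, hw, hw]
          exact (hg v).symm
        rw [pow_succ, mul_smul, h3, ih, smul_smul, pow_succ]
    have h3 : ∀ (P : F[X]) (v : V), aeval (-w) P • g v = g (aeval w P • v) := by
      intro P v
      induction P using Polynomial.induction_on' with
      | add p q hp hq => rw [map_add, map_add, add_smul, add_smul, map_add, hp, hq]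
      | monomial n c =>
        rw [aeval_monomial, aeval_monomial, ← Algebra.smul_def, ← Algebra.smul_def, smul_assoc, smul_assoc, map_smul, hpow]
    intro v
    have h4 := h3 (minpoly F w) (g.symm v)
    rw [LinearEquiv.apply_symm_apply, minpoly.aeval, zero_smul, map_zero] at h4
    exact h4
  obtain ⟨σ, hσ⟩ := minpoly.exists_algEquiv_of_root' (K := F) (L := L) (x := -w) (y := w)
    (Algebra.IsAlgebraic.isAlgebraic w) hroot
  have hσσ : ∀ a, σ (σ a) = a := by
    intro a
    obtain ⟨P, rfl⟩ := hgen a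
    have h1 : ∀ x : L, σ (aeval x P) = aeval (σ x) P := fun x => (aeval_algHom_apply σ.toAlgHom x P).symm
    rw [h1, h1, hσ, map_neg, hσ, neg_neg]
  have h2L : (2 : L) ≠ 0 := by
    intro h
    apply h2
    apply (algebraMap F L).injective
    rw [map_ofNat, map_zero]
    exact h
  have hσ1 : σ ≠ 1 := by
    rintro rfl
    have h3 : w = -w := hσ
    have h4 : (2 : L) * w = 0 := by
      rw [two_mul]
      nth_rewrite 1 [h3]
      exact neg_add_cancel w
    exact (mul_ne_zero h2L hw0) h4
  -- the group is cyclic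
  have hστ : σ = τ := by
    by_contra hne
    have hfinG : Fintype (L ≃ₐ[F] L) := Fintype.ofFinite _
    have h3 := IsCyclic.card_pow_eq_one_le (α := L ≃ₐ[F] L) (n := 2) two_pos
    have h4 : ({1, σ, τ} : Finset (L ≃ₐ[F] L)) ⊆ Finset.univ.filter fun a => a ^ 2 = 1 := by
      intro x hx
      rw [Finset.mem_filter]
      refine ⟨Finset.mem_univ _, ?_⟩
      rw [Finset.mem_insert, Finset.mem_insert, Finset.mem_singleton] at hx
      rcases hx with rfl | rfl | rfl
      · exact one_pow 2
      · exact AlgEquiv.ext fun a => by rw [pow_two]; exact hσσ a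
      · exact AlgEquiv.ext fun a => by rw [pow_two]; exact hττ a
    have h5 := Finset.card_le_card h4
    rw [Finset.card_eq_three.2 ⟨1, σ, τ, hσ1.symm, hτ1.symm, hne, rfl⟩] at h5
    omega
  have hw2 : w * w = -1 := by
    have h3 : -w = w⁻¹ := by rw [← hσ, hστ, hτw]
    have h4 : w * (-w) = 1 := by rw [h3, mul_inv_cancel₀ hw0]
    rw [mul_neg] at h4
    rw [← h4, neg_neg]
  refine ⟨fun v => ?_, ?_⟩
  · have h3 : W (W v) = (w * w) • v := by
      rw [mul_smul, hw, hw]
      rfl
    rw [h3, hw2, neg_smul, one_smul]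
  · rw [← hmin]
    have h3 : aeval w (X ^ 2 + 1 : F[X]) = 0 := by
      rw [map_add, map_pow, aeval_X, map_one, pow_two, hw2, neg_add_cancel]
    have h4 : (X ^ 2 + 1 : F[X]) ≠ 0 := by
      intro h
      have := congrArg (fun P : F[X] => P.coeff 2) h
      simp [coeff_one] at this
    refine (natDegree_le_of_dvd (minpoly.dvd F w h3) h4).trans ?_
    compute_degree

end field

end Cfsg.Agent.H510.CS
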